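import Mathlib.GroupTheory.Solvable
import Mathlib.GroupTheory.Abelianization.Defs
import Mathlib.GroupTheory.SpecificGroups.Alternating
import Mathlib.Logic.Equiv.Fintype
import Mathlib.GroupTheory.Perm.Sign

/-!
Pairs of elements generating a non-solvable group with product of order not a power of `p`:
restriction to invariant point sets and the reductions to small models.
-/

set_option autoImplicit false

namespace CfsgLib.FreePair

open Equiv

/-- The product has order not a power of `p` and the group generated is not solvable. -/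
def Free {G : Type*} [Group G] (p : ℕ) (u v : G) : Prop :=
  (∀ k : ℕ, (u * v) ^ p ^ k ≠ 1) ∧ ¬ Group.IsSolvable ↥(Subgroup.closure ({u, v} : Set G))

/-- Some even conjugate of `w` makes a free pair with `u`. -/
def Goal {n : ℕ} (p : ℕ) (u w : Perm (Fin n)) : Prop :=
  ∃ g : Perm (Fin n), Perm.sign g = 1 ∧ Free p u (g * w * g⁻¹)

theorem Free.conj {G : Type*} [Group G] {p : ℕ} {u v : G} (h : Free p u v) (g : G) :
    Free p (g * v * g⁻¹) (g * u * g⁻¹) := by
  constructor
  · intro k hk
    refine h.1 k ?_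
    have e : g * v * g⁻¹ * (g * u * g⁻¹) = (g * v) * (u * v) * (g * v)⁻¹ := by group
    rw [e, conj_pow, conj_eq_one_iff] at hk
    exact hk
  · intro hsol
    refine h.2 ?_
    let f : ↥(Subgroup.closure ({u, v} : Set G)) →*
        ↥(Subgroup.closure ({g * v * g⁻¹, g * u * g⁻¹} : Set G)) :=
      ((MulAut.conj g).toMonoidHom.comp (Subgroup.subtype _)).codRestrict _ fun x => by
        have hx : (MulAut.conj g).toMonoidHom x.1 ∈
            (Subgroup.closure ({u, v} : Set G)).map (MulAut.conj g).toMonoidHom :=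
          ⟨x.1, x.2, rfl⟩
        rw [MonoidHom.map_closure, Set.image_pair] at hx
        simpa [Set.pair_comm] using hx
    have hf : Function.Injective f := fun x y e => by
      apply Subtype.ext
      exact (MulAut.conj g).injective (congrArg Subtype.val e)
    haveI := hsol
    exact Group.isSolvable_of_isSolvable_injective hf

theorem Goal.symm {n p : ℕ} {u w : Perm (Fin n)} (h : Goal p w u) : Goal p u w := by
  obtain ⟨g, hg, hfree⟩ := h
  refine ⟨g⁻¹, by rw [Perm.sign_inv, hg], ?_⟩
  have := hfree.conj g⁻¹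
  rwa [show g⁻¹ * (g * u * g⁻¹) * g⁻¹⁻¹ = u by group] at this

/-- Non-solvability from three elements of coprime orders with product one. -/
theorem not_solvable_of_coprime {G : Type*} [Group G] {s t : G} {A B C : ℕ} (hs : s ^ A = 1)
    (ht : t ^ B = 1) (hst : (s * t) ^ C = 1) (hAB : Nat.Coprime A B) (hAC : Nat.Coprime A C)
    (hBC : Nat.Coprime B C) (h1 : s ≠ 1) : ¬ Group.IsSolvable G := by
  intro hsol
  have key : ∀ (K : Subgroup G), s ∈ K → t ∈ K → s ∈ ⁅K, K⁆ ∧ t ∈ ⁅K, K⁆ := by
    intro K hsK htK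
    rw [← Subgroup.map_subtype_commutator]
    set a := Abelianization.of (⟨s, hsK⟩ : K) with ha
    set b := Abelianization.of (⟨t, htK⟩ : K) with hb
    have hA : a ^ A = 1 := by
      rw [ha, ← map_pow, show (⟨s, hsK⟩ : K) ^ A = 1 from Subtype.ext hs, map_one]
    have hB : b ^ B = 1 := by
      rw [hb, ← map_pow, show (⟨t, htK⟩ : K) ^ B = 1 from Subtype.ext ht, map_one]
    have hC : (a * b) ^ C = 1 := by
      rw [ha, hb, ← map_mul, ← map_pow,
        show ((⟨s, hsK⟩ : K) * ⟨t, htK⟩) ^ C = 1 from Subtype.ext hst, map_one]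
    have ha1 : a = 1 := by
      have h2 : a ^ (B * C) = 1 := by
        have : (a * b) ^ (B * C) = 1 := by rw [mul_comm B C, pow_mul, hC, one_pow]
        rwa [mul_pow, pow_mul b, hB, one_pow, mul_one] at this
      have h3 := Nat.Coprime.mul_right hAB hAC
      simpa [h3.gcd_eq_one] using pow_gcd_eq_one.2 ⟨hA, h2⟩
    have hb1 : b = 1 := by
      rw [ha1, one_mul] at hC
      simpa [hBC.gcd_eq_one] using pow_gcd_eq_one.2 ⟨hB, hC⟩
    exact ⟨⟨⟨s, hsK⟩, by rw [← Abelianization.ker_of]; exact MonoidHom.mem_ker.2 ha1, rfl⟩,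
      ⟨⟨t, htK⟩, by rw [← Abelianization.ker_of]; exact MonoidHom.mem_ker.2 hb1, rfl⟩⟩
  have hall : ∀ i, s ∈ derivedSeries G i ∧ t ∈ derivedSeries G i := by
    intro i
    induction i with
    | zero => exact ⟨trivial, trivial⟩
    | succ i ih => rw [derivedSeries_succ]; exact key _ ih.1 ih.2
  obtain ⟨i, hi⟩ := hsol.solvable
  have := (hall i).1
  rw [hi, Subgroup.mem_bot] at this
  exact h1 this

theorem mem_closure_left {G : Type*} [Group G] (u v : G) :
    u ∈ Subgroup.closure ({u, v} : Set G) :=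
  Subgroup.subset_closure (Set.mem_insert u {v})

theorem mem_closure_right {G : Type*} [Group G] (u v : G) :
    v ∈ Subgroup.closure ({u, v} : Set G) :=
  Subgroup.subset_closure (Set.mem_insert_of_mem u (Set.mem_singleton v))

section Restrict

variable {α β : Type*}

theorem semiconj_pow {i : β → α} {u : Perm α} {x : Perm β} (h : ∀ k, u (i k) = i (x k)) (a : ℕ) :
    ∀ k, (u ^ a) (i k) = i ((x ^ a) k) := by
  induction a with
  | zero => intro k; simp
  | succ a ih =>
    intro k
    rw [pow_succ, pow_succ, Perm.mul_apply, Perm.mul_apply, h, ih]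

theorem mem_range_of_apply [Finite β] {i : β → α} {u : Perm α} {x : Perm β}
    (h : ∀ k, u (i k) = i (x k)) {z : α} {r : ℕ} (hz : (u ^ r) z ∈ Set.range i) :
    z ∈ Set.range i := by
  obtain ⟨k, hk⟩ := hz
  refine ⟨(x ^ r).symm k, (u ^ r).injective ?_⟩
  rw [semiconj_pow h r]
  simpa using hk

/-- A non-solvable restriction to an invariant set. -/
theorem not_solvable_of_restrict {i : β → α} (hi : Function.Injective i) {u v U V : Perm α}
    {x y : Perm β} (hx : ∀ k, U (i k) = i (x k)) (hy : ∀ k, V (i k) = i (y k))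
    (hU : U ∈ Subgroup.closure ({u, v} : Set (Perm α)))
    (hV : V ∈ Subgroup.closure ({u, v} : Set (Perm α)))
    (h : ¬ Group.IsSolvable ↥(Subgroup.closure ({x, y} : Set (Perm β)))) :
    ¬ Group.IsSolvable ↥(Subgroup.closure ({u, v} : Set (Perm α))) := by
  intro hsol
  let R : Subgroup (Perm α × Perm β) :=
    { carrier := {P | P.1 ∈ Subgroup.closure ({u, v} : Set (Perm α)) ∧ ∀ k, P.1 (i k) = i (P.2 k)}
      one_mem' := ⟨one_mem _, fun k => rfl⟩
      mul_mem' := fun {P Q} hP hQ => ⟨mul_mem hP.1 hQ.1, fun k => by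
        rw [Prod.fst_mul, Prod.snd_mul, Perm.mul_apply, Perm.mul_apply, hQ.2, hP.2]⟩
      inv_mem' := fun {P} hP => ⟨inv_mem hP.1, fun k => by
        apply P.1.injective
        rw [hP.2]
        simp⟩ }
  let f : R →* ↥(Subgroup.closure ({u, v} : Set (Perm α))) :=
    ((MonoidHom.fst _ _).comp R.subtype).codRestrict _ fun P => P.2.1
  have hf : Function.Injective f := fun P Q e => by
    have e1 : P.1.1 = Q.1.1 := congrArg Subtype.val e
    refine Subtype.ext (Prod.ext e1 (Perm.ext fun k => hi ?_))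
    rw [← P.2.2, ← Q.2.2, e1]
  haveI := hsol
  haveI : Group.IsSolvable R := Group.isSolvable_of_isSolvable_injective hf
  have hle : Subgroup.closure ({x, y} : Set (Perm β)) ≤ R.map (MonoidHom.snd _ _) := by
    rw [Subgroup.closure_le]
    rintro z (rfl | rfl)
    · exact ⟨(U, z), ⟨hU, hx⟩, rfl⟩
    · exact ⟨(V, z), ⟨hV, hy⟩, rfl⟩
  haveI : Group.IsSolvable (R.map (MonoidHom.snd (Perm α) (Perm β))) :=
    Group.isSolvable_of_surjective (MonoidHom.subgroupMap_surjective (MonoidHom.snd _ _) R)
  exact h (Group.isSolvable_of_isSolvable_injective (Subgroup.inclusion_injective hle))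

end Restrict

/-- Models on a small set, in both parities. -/
def Model {β : Type*} [Fintype β] [DecidableEq β] (p : ℕ) (c e : Perm β) : Prop :=
  ∀ ε : ℤˣ, ∃ π : Perm β, Perm.sign π = ε ∧ Free p c (π * e * π⁻¹)

variable {n p : ℕ} {β : Type*} [Fintype β] [DecidableEq β] {u w : Perm (Fin n)} {c e : Perm β}
  {i j : β → Fin n}

/-- An even permutation carrying `j` to `i` twisted by a model, with further prescribed values. -/
theorem exists_even_model {ι : Type*} [Fintype ι] {P Q : ι → Fin n}
    (hj : Function.Injective (Sum.elim j P)) (hi : Function.Injective (Sum.elim i Q))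
    (hM : Model p c e) :
    ∃ g : Perm (Fin n), Perm.sign g = 1 ∧ ∃ π : Perm β, Free p c (π * e * π⁻¹) ∧
      (∀ k, g (j k) = i (π k)) ∧ ∀ a, g (P a) = Q a := by
  classical
  let e₀ : {x // x ∈ Set.range (Sum.elim j P)} ≃ {x // x ∈ Set.range (Sum.elim i Q)} :=
    ((Equiv.ofInjective _ hj).symm).trans (Equiv.ofInjective _ hi)
  set h := e₀.extendSubtype with hh
  have hval : ∀ s, h (Sum.elim j P s) = Sum.elim i Q s := fun s => by
    rw [hh, Equiv.extendSubtype_apply_of_mem e₀ _ ⟨s, rfl⟩]
    simp [e₀, Equiv.ofInjective_symm_apply]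
  obtain ⟨π, hπ, hfree⟩ := hM (Perm.sign h)
  have hi' : Function.Injective i := fun a b hab =>
    Sum.inl_injective (hi (a₁ := Sum.inl a) (a₂ := Sum.inl b) hab)
  let f : β ≃ {x // x ∈ Set.range i} := Equiv.ofInjective i hi'
  refine ⟨π.extendDomain f * h, ?_, π, hfree, fun k => ?_, fun a => ?_⟩
  · rw [Perm.sign_mul, Perm.sign_extendDomain, hπ, Int.units_mul_self]
  · rw [Perm.mul_apply, show h (j k) = i k from hval (Sum.inl k)]
    exact Perm.extendDomain_apply_image π f k
  · rw [Perm.mul_apply, show h (P a) = Q a from hval (Sum.inr a)]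
    refine Perm.extendDomain_apply_not_subtype π f ?_
    rintro ⟨k, hk⟩
    exact Sum.inl_ne_inr (hi (a₁ := Sum.inl k) (a₂ := Sum.inr a) hk)

theorem conj_semiconj {g : Perm (Fin n)} {π : Perm β} {W : Perm (Fin n)}
    (hg : ∀ k, g (j k) = i (π k)) (hW : ∀ k, W (j k) = j (e k)) :
    ∀ k, (g * W * g⁻¹) (i k) = i ((π * e * π⁻¹) k) := by
  intro k
  have h1 : g⁻¹ (i k) = j (π⁻¹ k) := by
    rw [Perm.inv_eq_iff_eq, hg]
    simp
  rw [Perm.mul_apply, Perm.mul_apply, h1, hW, hg]
  rfl

/-- A model on `u`-invariant points, the other points on the relevant cycle being fixed by `u`. -/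
theorem goal_of_fixed (hM : Model p c e) (hi : Function.Injective i) (hj : Function.Injective j)
    (hu : ∀ k, u (i k) = i (c k)) {b : ℕ} (hb : 0 < b) (hw : ∀ k, (w ^ b) (j k) = j (e k))
    (hfix : b = 1 ∨ ((∀ r, 0 < r → r < b → ∀ k, (w ^ r) (j k) ∉ Set.range j) ∧
      ∀ x, x ∉ Set.range i → u x = x)) : Goal p u w := by
  obtain ⟨g, hg, π, hfree, hgv, -⟩ := exists_even_model (ι := Empty) (P := Empty.elim)
    (Q := Empty.elim) (i := i) (j := j)
    (hj.sumElim (fun a => a.elim) (fun _ a => a.elim))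
    (hi.sumElim (fun a => a.elim) (fun _ a => a.elim)) hM
  set v := g * w * g⁻¹ with hv
  have hvb : ∀ k, (v ^ b) (i k) = i ((π * e * π⁻¹) k) := by
    rw [hv, conj_pow]; exact conj_semiconj hgv hw
  have hprod : ∀ k, ((u * v) ^ b) (i k) = i ((c * (π * e * π⁻¹)) k) := by
    intro k
    have hr : ∀ r, r < b → ((u * v) ^ r) (i k) = (v ^ r) (i k) := by
      intro r hr
      induction r with
      | zero => simp
      | succ r ih =>
        rcases hfix with h | ⟨hout, hfix⟩
        · omega
        have hnot : (v ^ (r + 1)) (i k) ∉ Set.range i := by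
          rw [hv, conj_pow, Perm.mul_apply, Perm.mul_apply,
            show g⁻¹ (i k) = j (π⁻¹ k) by rw [Perm.inv_eq_iff_eq, hgv]; simp]
          rintro ⟨k', hk'⟩
          refine hout (r + 1) (Nat.succ_pos r) hr (π⁻¹ k) ⟨π⁻¹ k', g.injective ?_⟩
          rw [hgv, ← hk']
          simp
        rw [pow_succ', Perm.mul_apply, ih (by omega), Perm.mul_apply, ← Perm.mul_apply v, ← pow_succ']
        exact hfix _ hnot
    obtain ⟨b', rfl⟩ : ∃ b', b = b' + 1 := ⟨b - 1, by omega⟩
    rw [pow_succ', Perm.mul_apply, hr b' (by omega), Perm.mul_apply, ← Perm.mul_apply v, ← pow_succ',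
      hvb, hu]
    rfl
  refine ⟨g, hg, fun k hk => hfree.1 k (Perm.ext fun a => hi ?_), ?_⟩
  · rw [← semiconj_pow hprod (p ^ k) a, ← pow_mul, mul_comm b, pow_mul, hk, one_pow]
    simp
  · exact not_solvable_of_restrict hi hu hvb (mem_closure_left u v)
      (Subgroup.pow_mem _ (mem_closure_right u v) b) hfree.2

/-- A model on points invariant under powers, with a transposed pair in the product outside. -/
theorem goal_of_edges (hp : Odd p) (hM : Model p c e) {a b : ℕ}
    (hu : ∀ k, (u ^ a) (i k) = i (c k)) (hw : ∀ k, (w ^ b) (j k) = j (e k)) {P P' z z' : Fin n}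
    (hj : Function.Injective (Sum.elim j ![P, w P, P', w P']))
    (hi : Function.Injective (Sum.elim i ![u z, z', u z', z])) : Goal p u w := by
  obtain ⟨g, hg, π, hfree, hgv, hgP⟩ := exists_even_model (P := ![P, w P, P', w P'])
    (Q := ![u z, z', u z', z]) hj hi hM
  set v := g * w * g⁻¹ with hv
  have hvb : ∀ k, (v ^ b) (i k) = i ((π * e * π⁻¹) k) := by
    rw [hv, conj_pow]; exact conj_semiconj hgv hw
  have h0 : g P = u z := hgP 0
  have h1 : g (w P) = z' := hgP 1
  have h2 : g P' = u z' := hgP 2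
  have h3 : g (w P') = z := hgP 3
  have s1 : (u * v) (u z) = u z' := by
    rw [Perm.mul_apply, hv, Perm.mul_apply, Perm.mul_apply, Perm.inv_eq_iff_eq.2 h0.symm, h1]
  have s2 : (u * v) (u z') = u z := by
    rw [Perm.mul_apply, hv, Perm.mul_apply, Perm.mul_apply, Perm.inv_eq_iff_eq.2 h2.symm, h3]
  have hne : u z ≠ u z' := fun h => absurd
    (hi (a₁ := Sum.inr 0) (a₂ := Sum.inr 2) (by simpa using h)) (by simp)
  refine ⟨g, hg, fun k hk => ?_, ?_⟩
  · obtain ⟨m, hm⟩ : Odd (p ^ k) := hp.pow
    have hsq : ∀ m : ℕ, ((u * v) ^ (2 * m)) (u z) = u z := by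
      intro m
      induction m with
      | zero => simp
      | succ m ih =>
        rw [Nat.mul_succ, pow_add, Perm.mul_apply, pow_two, Perm.mul_apply, s1, s2, ih]
    have := Perm.ext_iff.1 hk (u z)
    rw [hm, pow_succ', Perm.mul_apply, hsq, s1, Perm.one_apply] at this
    exact hne this.symm
  · exact not_solvable_of_restrict (fun a b hab =>
      Sum.inl_injective (hi (a₁ := Sum.inl a) (a₂ := Sum.inl b) hab)) hu hvb
      (Subgroup.pow_mem _ (mem_closure_left u v) a)
      (Subgroup.pow_mem _ (mem_closure_right u v) b) hfree.2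

end CfsgLib.FreePair
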