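import Cfsg.Agent.Lib.FreePair.Criteria
import Cfsg.Agent.Lib.Solvable.Hall
import Mathlib.GroupTheory.Perm.Cycle.Type
import Mathlib.GroupTheory.GroupAction.Primitive
import Mathlib.GroupTheory.SpecificGroups.Cyclic
import Mathlib.Data.ZMod.Basic

/-!
Two `p`-cycles on `p` points whose product fixes a point generate a non-solvable group.
-/

set_option autoImplicit false
set_option linter.style.haveILetI false

namespace CfsgLib.FreePair

open Equiv MulAction

variable {p : ℕ} [Fact p.Prime]

/-- A solvable transitive group of prime degree has a regular normal Sylow subgroup. -/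
theorem solvable_prime_degree (R : Subgroup (Perm (ZMod p))) [IsPretransitive R (ZMod p)]
    [Group.IsSolvable R] :
    ∃ N : Subgroup R, (∀ x : R, x ^ p = 1 → x ∈ N) ∧
      ∀ x ∈ N, x.1 0 = 0 → x = 1 := by
  classical
  have hp : p.Prime := Fact.out
  haveI : IsPreprimitive R (ZMod p) := IsPreprimitive.of_prime_card (by rwa [Nat.card_zmod])
  obtain ⟨x₁, hx₁⟩ := exists_smul_eq R (0 : ZMod p) 1
  haveI : Nontrivial R := nontrivial_of_ne x₁ 1 fun h => by
    rw [h, one_smul] at hx₁
    exact zero_ne_one hx₁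
  obtain ⟨q, N, hq, hN, hNp, hN1⟩ := CfsgLib.Solvable.exists_normal_pgroup_ne_bot (G := R)
  haveI : Fact q.Prime := ⟨hq⟩
  haveI hNtr : IsPretransitive N (ZMod p) := IsQuasiPreprimitive.isPretransitive_of_normal (by
    intro h
    apply hN1
    rw [eq_bot_iff]
    intro x hx
    rw [Subgroup.mem_bot]
    ext z
    exact (h ▸ Set.mem_univ z : z ∈ fixedPoints N (ZMod p)) ⟨x, hx⟩)
  have hpN : p ∣ Nat.card N := by
    conv_lhs => rw [← Nat.card_zmod p, ← index_stabilizer_of_transitive N (0 : ZMod p)]
    exact Subgroup.index_dvd_card _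
  obtain ⟨k, hk⟩ := IsPGroup.iff_card.1 hNp
  obtain rfl : p = q := (Nat.prime_dvd_prime_iff_eq hp hq).1 (hp.dvd_of_dvd_pow (hk ▸ hpN))
  have hle : ∀ (M : Subgroup R) (l : ℕ), Nat.card M = p ^ l → l ≤ 1 := by
    intro M l hl
    have hd : p ^ l ∣ p.factorial := by
      rw [← hl]
      have h1 := (Subgroup.card_subgroup_dvd_card M).trans (Subgroup.card_subgroup_dvd_card R)
      rwa [Nat.card_perm, Nat.card_zmod] at h1
    by_contra hcon
    have h2 : p * p ∣ p * (p - 1).factorial := by
      rw [Nat.mul_factorial_pred hp.ne_zero, ← sq]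
      exact (pow_dvd_pow p (by omega)).trans hd
    have h3 := (Nat.Prime.dvd_factorial hp).1 (Nat.dvd_of_mul_dvd_mul_left hp.pos h2)
    have := hp.two_le
    omega
  have hNcard : Nat.card N = p := by
    have h1 := hle N k hk
    interval_cases k
    · rw [pow_zero] at hk; rw [hk] at hpN; exact absurd hpN (by simpa using hp.ne_one)
    · rw [hk, pow_one]
  refine ⟨N, fun x hx => ?_, fun x hx h0 => ?_⟩
  · have hz : IsPGroup p (Subgroup.zpowers x) := by
      rintro ⟨y, hy⟩
      obtain ⟨i, rfl⟩ := Subgroup.mem_zpowers_iff.1 hy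
      exact ⟨1, Subtype.ext (by
        rw [pow_one, SubmonoidClass.coe_pow, ← zpow_natCast, ← zpow_mul, mul_comm, zpow_mul,
          zpow_natCast, hx, one_zpow]; rfl)⟩
    have hsup : IsPGroup p (Subgroup.zpowers x ⊔ N : Subgroup R) :=
      hz.to_sup_of_normal_right hNp
    obtain ⟨l, hl⟩ := IsPGroup.iff_card.1 hsup
    have hl1 := hle _ l hl
    have hle' : Nat.card (Subgroup.zpowers x ⊔ N : Subgroup R) ≤ Nat.card N := by
      rw [hl, hNcard]
      exact (Nat.pow_le_pow_right hp.pos hl1).trans (le_of_eq (pow_one p))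
    rw [Subgroup.eq_of_le_of_card_ge (le_sup_right : N ≤ _) hle']
    exact Subgroup.mem_sup_left (Subgroup.mem_zpowers x)
  · have hsurj : Function.Surjective fun y : N => y • (0 : ZMod p) := exists_smul_eq N 0
    have hbij : Function.Bijective fun y : N => y • (0 : ZMod p) :=
      (Nat.bijective_iff_surjective_and_card _).2 ⟨hsurj, by rw [hNcard, Nat.card_zmod]⟩
    have : (⟨x, hx⟩ : N) = 1 := hbij.injective (by
      show x.1 0 = ((1 : N) • (0 : ZMod p))
      rw [one_smul, h0])
    exact congrArg Subtype.val this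

theorem addRight_pow (n : ℕ) (a : ZMod p) :
    (Equiv.addRight (1 : ZMod p) ^ n) a = a + n := by
  induction n with
  | zero => simp
  | succ n ih => rw [pow_succ', Perm.mul_apply, ih, Equiv.coe_addRight]; push_cast; ring

theorem model_prime (hp : 5 ≤ p) :
    Model p (Equiv.addRight (1 : ZMod p)) (Equiv.addRight (1 : ZMod p)) := by
  classical
  have hne : ∀ a : ℕ, 0 < a → a < 5 → (a : ZMod p) ≠ 0 := fun a h1 h2 h => by
    rw [ZMod.natCast_eq_zero_iff] at h
    have := Nat.le_of_dvd h1 h
    omega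
  have e1 : (1 : ZMod p) ≠ 0 := one_ne_zero
  have e2 : (2 : ZMod p) ≠ 0 := by exact_mod_cast hne 2 two_pos (by norm_num)
  have e3 : (3 : ZMod p) ≠ 0 := by exact_mod_cast hne 3 three_pos (by norm_num)
  have e4 : (4 : ZMod p) ≠ 0 := by exact_mod_cast hne 4 four_pos (by norm_num)
  have n1 : (1 : ZMod p) ≠ -1 := fun h => e2 (by linear_combination h)
  have n2 : (2 : ZMod p) ≠ -1 := fun h => e3 (by linear_combination h)
  have n3 : (3 : ZMod p) ≠ -1 := fun h => e4 (by linear_combination h)
  have n21 : (2 : ZMod p) ≠ 1 := fun h => e1 (by linear_combination h)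
  have n23 : (2 : ZMod p) ≠ 3 := fun h => e1 (by linear_combination -h)
  have n13 : (1 : ZMod p) ≠ 3 := fun h => e2 (by linear_combination -h)
  have n0 : (0 : ZMod p) ≠ -1 := fun h => e1 (by linear_combination h)
  set c : Perm (ZMod p) := Equiv.addRight 1 with hc
  have hcp : c ^ p = 1 := Perm.ext fun a => by
    rw [addRight_pow, ZMod.natCast_self, add_zero]; rfl
  -- each admissible conjugator gives a model
  have key : ∀ π : Perm (ZMod p), π 0 = 0 → π 1 = -1 → π 2 = 2 → Free p c (π * c * π⁻¹) := by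
    intro π h0 h1 h2
    set f := π * c * π⁻¹ with hf
    have hf0 : f 0 = -1 := by
      rw [hf, Perm.mul_apply, Perm.mul_apply, Perm.inv_eq_iff_eq.2 h0.symm, hc,
        Equiv.coe_addRight]
      show π (0 + 1) = -1
      rw [zero_add, h1]
    have hf1 : f (-1) = 2 := by
      rw [hf, Perm.mul_apply, Perm.mul_apply, Perm.inv_eq_iff_eq.2 h1.symm, hc,
        Equiv.coe_addRight]
      show π (1 + 1) = 2
      rw [one_add_one_eq_two, h2]
    have hz0 : (c * f) 0 = 0 := by
      rw [Perm.mul_apply, hf0, hc, Equiv.coe_addRight]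
      show (-1 : ZMod p) + 1 = 0
      ring
    have hz1 : c * f ≠ 1 := by
      intro h
      have h' := Perm.ext_iff.1 h (-1)
      rw [Perm.mul_apply, hf1, hc, Equiv.coe_addRight, Perm.one_apply] at h'
      exact e4 (by linear_combination h')
    refine ⟨fun k hk => hz1 ?_, fun hsol => hz1 ?_⟩
    · by_contra hne'
      have hcard : ¬ p ∣ Fintype.card (ZMod p) → False := fun h => h (by rw [ZMod.card])
      have h1 : (c * f).supportᶜ.card ≡ Fintype.card (ZMod p) [MOD p] :=
        Perm.card_compl_support_modEq (n := k) hk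
      have h3 : 0 < (c * f).supportᶜ.card :=
        Finset.card_pos.2 ⟨0, by rw [Finset.mem_compl, Perm.notMem_support]; exact hz0⟩
      have h4 : (c * f).supportᶜ.card < p := by
        rw [Finset.card_compl, ZMod.card]
        have : 0 < (c * f).support.card :=
          Nat.pos_of_ne_zero fun h => hne' (Perm.support_eq_empty_iff.1 (Finset.card_eq_zero.1 h))
        have := (NeZero.ne p)
        omega
      rw [ZMod.card, Nat.modEq_iff_dvd' (by omega)] at h1
      have := Nat.le_of_dvd (by omega) h1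
      omega
    · set R := Subgroup.closure ({c, f} : Set (Perm (ZMod p))) with hR
      haveI := hsol
      have hcR : c ∈ R := mem_closure_left c f
      have hfR : f ∈ R := mem_closure_right c f
      haveI : IsPretransitive R (ZMod p) := by
        refine ⟨fun a b => ⟨⟨c, hcR⟩ ^ (b - a).val, ?_⟩⟩
        show (c ^ (b - a).val) a = b
        rw [addRight_pow, ZMod.natCast_zmod_val]
        ring
      obtain ⟨N, hN, hreg⟩ := solvable_prime_degree R
      have hm : (⟨c, hcR⟩ * ⟨f, hfR⟩ : R) ∈ N := mul_mem (hN _ (Subtype.ext hcp))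
        (hN _ (Subtype.ext (by
          show f ^ p = 1
          rw [hf, conj_pow, hcp]; group)))
      exact congrArg Subtype.val (hreg _ hm hz0)
  intro ε
  rcases Int.units_eq_one_or ε with rfl | rfl
  · refine ⟨Equiv.swap 1 (-1) * Equiv.swap 3 (-1), ?_, key _ ?_ ?_ ?_⟩
    · rw [Perm.sign_mul, Perm.sign_swap n1, Perm.sign_swap n3]; decide
    · rw [Perm.mul_apply, Equiv.swap_apply_of_ne_of_ne e3.symm n0,
        Equiv.swap_apply_of_ne_of_ne e1.symm n0]
    · rw [Perm.mul_apply, Equiv.swap_apply_of_ne_of_ne n13 n1, Equiv.swap_apply_left]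
    · rw [Perm.mul_apply, Equiv.swap_apply_of_ne_of_ne n23 n2,
        Equiv.swap_apply_of_ne_of_ne n21 n2]
  · refine ⟨Equiv.swap 1 (-1), Perm.sign_swap n1, key _ ?_ ?_ ?_⟩
    · rw [Equiv.swap_apply_of_ne_of_ne e1.symm n0]
    · rw [Equiv.swap_apply_left]
    · rw [Equiv.swap_apply_of_ne_of_ne n21 n2]

end CfsgLib.FreePair
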