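import Cfsg.Agent.Lib.FreePair.Criteria
import Mathlib.Data.Fintype.Perm

/-!
Small models for the prime three, each in both parities.
-/

set_option autoImplicit false
set_option maxRecDepth 8000

namespace CfsgLib.FreePair

open Equiv

theorem model_free {N : ℕ} {c e : Perm (Fin N)} {ε : ℤˣ} (π f : Perm (Fin N)) (m A B C : ℕ)
    (S T : Perm (Fin N) → Perm (Fin N) → Perm (Fin N)) (hsign : Perm.sign π = ε)
    (hf : π * e * π⁻¹ = f) (hz : (c * f) ^ m = 1) (hz1 : c * f ≠ 1) (hm : Nat.Coprime m 3)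
    (hs : (S c f) ^ A = 1 ∧ S c f ≠ 1) (ht : (T c f) ^ B = 1)
    (hst : (S c f * T c f) ^ C = 1) (hAB : Nat.Coprime A B)
    (hC : Nat.Coprime A C ∧ Nat.Coprime B C)
    (hmem : ∀ {K : Subgroup (Perm (Fin N))}, ∀ c f, c ∈ K → f ∈ K → S c f ∈ K ∧ T c f ∈ K) :
    ∃ π : Perm (Fin N), Perm.sign π = ε ∧ Free 3 c (π * e * π⁻¹) := by
  refine ⟨π, hsign, ?_, ?_⟩
  · rw [hf]
    intro k hk
    have h := pow_gcd_eq_one.2 ⟨hz, hk⟩
    rw [(hm.pow_right k).gcd_eq_one, pow_one] at h
    exact hz1 h
  · rw [hf]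
    obtain ⟨h1, h2⟩ := hmem c f (mem_closure_left c f) (mem_closure_right c f)
    exact not_solvable_of_coprime (s := (⟨S c f, h1⟩ : Subgroup.closure ({c, f} : Set _)))
      (t := ⟨T c f, h2⟩) (Subtype.ext hs.1) (Subtype.ext ht) (Subtype.ext hst) hAB hC.1 hC.2
      (fun h => hs.2 (congrArg Subtype.val h))

/-- `![1, 2, 0, 3, 4]` -/
def tri5 : Perm (Fin 5) := ⟨![1, 2, 0, 3, 4], ![2, 0, 1, 3, 4], by decide, by decide⟩

/-- `![1, 2, 0, 3, 4, 5]` -/
def tri6 : Perm (Fin 6) := ⟨![1, 2, 0, 3, 4, 5], ![2, 0, 1, 3, 4, 5], by decide, by decide⟩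

/-- `![1, 2, 0, 4, 5, 3]` -/
def dbl6 : Perm (Fin 6) := ⟨![1, 2, 0, 4, 5, 3], ![2, 0, 1, 5, 3, 4], by decide, by decide⟩

/-- `![1, 2, 3, 4, 5, 6, 7, 8, 0]` -/
def cyc9 : Perm (Fin 9) := ⟨![1, 2, 3, 4, 5, 6, 7, 8, 0], ![8, 0, 1, 2, 3, 4, 5, 6, 7], by decide, by decide⟩

/-- `![1, 2, 0, 3, 4, 5, 6, 7, 8]` -/
def tri9 : Perm (Fin 9) := ⟨![1, 2, 0, 3, 4, 5, 6, 7, 8], ![2, 0, 1, 3, 4, 5, 6, 7, 8], by decide, by decide⟩

/-- `![1, 2, 0, 4, 5, 3, 6, 7, 8]` -/
def dbl9 : Perm (Fin 9) := ⟨![1, 2, 0, 4, 5, 3, 6, 7, 8], ![2, 0, 1, 5, 3, 4, 6, 7, 8], by decide, by decide⟩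

/-- `![1, 2, 0, 4, 5, 3, 7, 8, 6]` -/
def trp9 : Perm (Fin 9) := ⟨![1, 2, 0, 4, 5, 3, 7, 8, 6], ![2, 0, 1, 5, 3, 4, 8, 6, 7], by decide, by decide⟩

theorem model_t5t5 : Model 3 tri5 tri5 := by
  intro ε
  rcases Int.units_eq_one_or ε with rfl | rfl
  · exact model_free ⟨![0, 3, 4, 1, 2], ![0, 3, 4, 1, 2], by decide, by decide⟩ (⟨![3, 1, 2, 4, 0], ![4, 1, 2, 0, 3], by decide, by decide⟩) 5 3 5 2 (fun c f => (c)) (fun c f => (c * f * c * f))
      (by decide) (by decide) (by decide) (by decide) (by decide) (by decide) (by decide) (by decide)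
      (by decide) (by decide)
      (fun c f hc hf => by constructor <;> repeat' first | assumption | apply mul_mem)
  · exact model_free ⟨![0, 3, 4, 2, 1], ![0, 4, 3, 1, 2], by decide, by decide⟩ (⟨![3, 1, 2, 4, 0], ![4, 1, 2, 0, 3], by decide, by decide⟩) 5 3 5 2 (fun c f => (c)) (fun c f => (c * f * c * f))
      (by decide) (by decide) (by decide) (by decide) (by decide) (by decide) (by decide) (by decide)
      (by decide) (by decide)
      (fun c f hc hf => by constructor <;> repeat' first | assumption | apply mul_mem)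

theorem model_d6d6 : Model 3 dbl6 dbl6 := by
  intro ε
  rcases Int.units_eq_one_or ε with rfl | rfl
  · exact model_free ⟨![0, 1, 3, 4, 2, 5], ![0, 1, 4, 2, 3, 5], by decide, by decide⟩ (⟨![1, 3, 5, 0, 2, 4], ![3, 0, 4, 1, 5, 2], by decide, by decide⟩) 5 3 5 2 (fun c f => (c)) (fun c f => (c * f * c * f))
      (by decide) (by decide) (by decide) (by decide) (by decide) (by decide) (by decide) (by decide)
      (by decide) (by decide)
      (fun c f hc hf => by constructor <;> repeat' first | assumption | apply mul_mem)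
  · exact model_free ⟨![0, 3, 4, 2, 1, 5], ![0, 4, 3, 1, 2, 5], by decide, by decide⟩ (⟨![3, 5, 1, 4, 0, 2], ![4, 2, 5, 0, 3, 1], by decide, by decide⟩) 5 3 5 2 (fun c f => (c)) (fun c f => (c * f * c * f))
      (by decide) (by decide) (by decide) (by decide) (by decide) (by decide) (by decide) (by decide)
      (by decide) (by decide)
      (fun c f hc hf => by constructor <;> repeat' first | assumption | apply mul_mem)

theorem model_d6t6 : Model 3 dbl6 tri6 := by
  intro ε
  rcases Int.units_eq_one_or ε with rfl | rfl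
  · exact model_free ⟨![0, 1, 3, 4, 2, 5], ![0, 1, 4, 2, 3, 5], by decide, by decide⟩ (⟨![1, 3, 2, 0, 4, 5], ![3, 0, 2, 1, 4, 5], by decide, by decide⟩) 4 3 4 5 (fun c f => (c)) (fun c f => (c * f))
      (by decide) (by decide) (by decide) (by decide) (by decide) (by decide) (by decide) (by decide)
      (by decide) (by decide)
      (fun c f hc hf => by constructor <;> repeat' first | assumption | apply mul_mem)
  · exact model_free ⟨![0, 1, 3, 2, 4, 5], ![0, 1, 3, 2, 4, 5], by decide, by decide⟩ (⟨![1, 3, 2, 0, 4, 5], ![3, 0, 2, 1, 4, 5], by decide, by decide⟩) 4 3 4 5 (fun c f => (c)) (fun c f => (c * f))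
      (by decide) (by decide) (by decide) (by decide) (by decide) (by decide) (by decide) (by decide)
      (by decide) (by decide)
      (fun c f hc hf => by constructor <;> repeat' first | assumption | apply mul_mem)

theorem model_t6d6 : Model 3 tri6 dbl6 := by
  intro ε
  rcases Int.units_eq_one_or ε with rfl | rfl
  · exact model_free ⟨![0, 1, 3, 4, 2, 5], ![0, 1, 4, 2, 3, 5], by decide, by decide⟩ (⟨![1, 3, 5, 0, 2, 4], ![3, 0, 4, 1, 5, 2], by decide, by decide⟩) 4 3 4 5 (fun c f => (c)) (fun c f => (c * f))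
      (by decide) (by decide) (by decide) (by decide) (by decide) (by decide) (by decide) (by decide)
      (by decide) (by decide)
      (fun c f hc hf => by constructor <;> repeat' first | assumption | apply mul_mem)
  · exact model_free ⟨![0, 1, 3, 2, 4, 5], ![0, 1, 3, 2, 4, 5], by decide, by decide⟩ (⟨![1, 3, 4, 0, 5, 2], ![3, 0, 5, 1, 2, 4], by decide, by decide⟩) 4 3 4 5 (fun c f => (c)) (fun c f => (c * f))
      (by decide) (by decide) (by decide) (by decide) (by decide) (by decide) (by decide) (by decide)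
      (by decide) (by decide)
      (fun c f hc hf => by constructor <;> repeat' first | assumption | apply mul_mem)

theorem model_cc : Model 3 cyc9 cyc9 := by
  intro ε
  rcases Int.units_eq_one_or ε with rfl | rfl
  · exact model_free ⟨![0, 1, 2, 3, 6, 5, 8, 7, 4], ![0, 1, 2, 3, 8, 5, 4, 7, 6], by decide, by decide⟩ (⟨![1, 2, 3, 6, 0, 8, 5, 4, 7], ![4, 0, 1, 2, 7, 6, 3, 8, 5], by decide, by decide⟩) 7 9 7 10 (fun c f => (c)) (fun c f => (c * f * f * c * f))
      (by decide) (by decide) (by decide) (by decide) (by decide) (by decide) (by decide) (by decide)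
      (by decide) (by decide)
      (fun c f hc hf => by constructor <;> repeat' first | assumption | apply mul_mem)
  · exact model_free ⟨![0, 1, 2, 3, 4, 5, 6, 8, 7], ![0, 1, 2, 3, 4, 5, 6, 8, 7], by decide, by decide⟩ (⟨![1, 2, 3, 4, 5, 6, 8, 0, 7], ![7, 0, 1, 2, 3, 4, 5, 8, 6], by decide, by decide⟩) 4 3 10 7 (fun c f => (c * c * c)) (fun c f => (c * c * c * f * f))
      (by decide) (by decide) (by decide) (by decide) (by decide) (by decide) (by decide) (by decide)
      (by decide) (by decide)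
      (fun c f hc hf => by constructor <;> repeat' first | assumption | apply mul_mem)

theorem model_tc : Model 3 tri9 cyc9 := by
  intro ε
  rcases Int.units_eq_one_or ε with rfl | rfl
  · exact model_free ⟨![0, 2, 5, 3, 4, 1, 6, 7, 8], ![0, 5, 1, 3, 4, 2, 6, 7, 8], by decide, by decide⟩ (⟨![2, 6, 5, 4, 1, 3, 7, 8, 0], ![8, 4, 0, 5, 3, 2, 1, 6, 7], by decide, by decide⟩) 4 4 3 7 (fun c f => (c * f)) (fun c f => (f * f * f))
      (by decide) (by decide) (by decide) (by decide) (by decide) (by decide) (by decide) (by decide)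
      (by decide) (by decide)
      (fun c f hc hf => by constructor <;> repeat' first | assumption | apply mul_mem)
  · exact model_free ⟨![0, 2, 1, 3, 4, 5, 6, 7, 8], ![0, 2, 1, 3, 4, 5, 6, 7, 8], by decide, by decide⟩ (⟨![2, 3, 1, 4, 5, 6, 7, 8, 0], ![8, 2, 0, 1, 3, 4, 5, 6, 7], by decide, by decide⟩) 7 4 7 15 (fun c f => (c * c * f * f)) (fun c f => (c * f))
      (by decide) (by decide) (by decide) (by decide) (by decide) (by decide) (by decide) (by decide)
      (by decide) (by decide)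
      (fun c f hc hf => by constructor <;> repeat' first | assumption | apply mul_mem)

theorem model_dc : Model 3 dbl9 cyc9 := by
  intro ε
  rcases Int.units_eq_one_or ε with rfl | rfl
  · exact model_free ⟨![0, 1, 2, 3, 5, 8, 6, 7, 4], ![0, 1, 2, 3, 8, 4, 6, 7, 5], by decide, by decide⟩ (⟨![1, 2, 3, 5, 0, 8, 7, 4, 6], ![4, 0, 1, 2, 7, 3, 8, 6, 5], by decide, by decide⟩) 4 3 4 7 (fun c f => (c)) (fun c f => (c * f))
      (by decide) (by decide) (by decide) (by decide) (by decide) (by decide) (by decide) (by decide)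
      (by decide) (by decide)
      (fun c f hc hf => by constructor <;> repeat' first | assumption | apply mul_mem)
  · exact model_free ⟨![0, 1, 2, 3, 5, 4, 6, 7, 8], ![0, 1, 2, 3, 5, 4, 6, 7, 8], by decide, by decide⟩ (⟨![1, 2, 3, 5, 6, 4, 7, 8, 0], ![8, 0, 1, 2, 5, 3, 4, 6, 7], by decide, by decide⟩) 7 7 9 10 (fun c f => (c * f * c)) (fun c f => (f * f))
      (by decide) (by decide) (by decide) (by decide) (by decide) (by decide) (by decide) (by decide)
      (by decide) (by decide)
      (fun c f hc hf => by constructor <;> repeat' first | assumption | apply mul_mem)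

theorem model_ec : Model 3 trp9 cyc9 := by
  intro ε
  rcases Int.units_eq_one_or ε with rfl | rfl
  · exact model_free ⟨![0, 1, 2, 3, 4, 6, 8, 7, 5], ![0, 1, 2, 3, 4, 8, 5, 7, 6], by decide, by decide⟩ (⟨![1, 2, 3, 4, 6, 0, 8, 5, 7], ![5, 0, 1, 2, 3, 7, 4, 8, 6], by decide, by decide⟩) 7 3 7 4 (fun c f => (c)) (fun c f => (c * f))
      (by decide) (by decide) (by decide) (by decide) (by decide) (by decide) (by decide) (by decide)
      (by decide) (by decide)
      (fun c f hc hf => by constructor <;> repeat' first | assumption | apply mul_mem)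
  · exact model_free ⟨![0, 1, 2, 3, 4, 5, 6, 8, 7], ![0, 1, 2, 3, 4, 5, 6, 8, 7], by decide, by decide⟩ (⟨![1, 2, 3, 4, 5, 6, 8, 0, 7], ![7, 0, 1, 2, 3, 4, 5, 8, 6], by decide, by decide⟩) 7 3 7 5 (fun c f => (c)) (fun c f => (c * f))
      (by decide) (by decide) (by decide) (by decide) (by decide) (by decide) (by decide) (by decide)
      (by decide) (by decide)
      (fun c f hc hf => by constructor <;> repeat' first | assumption | apply mul_mem)

end CfsgLib.FreePair
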