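import Cfsg.Agent.Lib.FreePair.Orbits
import Cfsg.Agent.Lib.FreePair.PrimeModel
import Cfsg.Agent.Lib.FreePair.ThreeModels

/-!
Elements of `p`-power order in alternating groups have free pairs of conjugates.
-/

set_option autoImplicit false
set_option linter.style.haveILetI false

namespace CfsgLib.FreePair

open Equiv
open scoped Finset

variable {n : ℕ} {u w : Perm (Fin n)}

theorem sumElim_inj {β : Type*} {i : β → Fin n} {f : Fin 4 → Fin n} (hi : Function.Injective i)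
    (hf : Function.Injective f) (hd : ∀ a, f a ∉ Set.range i) : Function.Injective (Sum.elim i f) :=
  hi.sumElim hf fun k a e => hd a ⟨k, e⟩

/-- A long cycle of `w` and a model on every `d`-th point of it. -/
theorem goal_long {p : ℕ} (hp : Odd p) {N : ℕ} [NeZero N] {d : ℕ} {x₀ : Fin n}
    (hw : Per w x₀ (d * N)) (hN : 2 ≤ N) {t : Fin 4 → ℕ} (ht : Function.Injective t)
    (hte : t 1 = t 0 + 1 ∧ t 3 = t 2 + 1) (htd : ∀ a, ¬ d ∣ t a) (htlt : ∀ a, t a < d * N)
    {β : Type*} [Fintype β] [DecidableEq β] (φ : β ≃ ZMod N) {c e : Perm β}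
    (he : ∀ k, φ (e k) = φ k + 1) (hM : Model p c e) :
    (∀ i : β → Fin n, Rep u c i → (∀ x, x ∉ Set.range i → u x = x) → Goal p u w) ∧
    (∀ (i : β → Fin n) (a : ℕ) (z z' : Fin n), Rep (u ^ a) c i →
      Function.Injective ![u z, z', u z', z] → (∀ b, (![u z, z', u z', z] : Fin 4 → Fin n) b ∉ Set.range i) →
      Goal p u w) := by
  have hd : 0 < d := Nat.pos_of_ne_zero fun h => by have := hw.pos; rw [h, zero_mul] at this; omega
  have hrep := (hw.pow hd).rep
  set j : β → Fin n := orb (w ^ d) x₀ N ∘ φ with hj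
  have hjinj : Function.Injective j := hrep.inj.comp φ.injective
  have hjsemi : ∀ k, (w ^ d) (j k) = j (e k) := fun k => by
    show (w ^ d) (orb _ _ _ (φ k)) = orb _ _ _ (φ (e k))
    rw [hrep.semi, he]; rfl
  have hjrange : Set.range j = Set.range (orb (w ^ d) x₀ N) := φ.surjective.range_comp _
  constructor
  · intro i hi hfix
    refine goal_of_fixed hM hi.inj hjinj hi.semi hd hjsemi (Or.inr ⟨fun r h1 h2 k => ?_, hfix⟩)
    rw [hjrange]
    exact hw.orb_pow_not_mem h1 h2 (φ k)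
  · intro i a z z' hi hf hout
    have hP : (![(w ^ t 0) x₀, w ((w ^ t 0) x₀), (w ^ t 2) x₀, w ((w ^ t 2) x₀)] : Fin 4 → Fin n) =
        fun b => (w ^ t b) x₀ := by
      funext b
      fin_cases b <;> simp [hte.1, hte.2, pow_succ', Perm.mul_apply]
    refine goal_of_edges hp hM hi.semi hjsemi (P := (w ^ t 0) x₀) (P' := (w ^ t 2) x₀) (z := z)
      (z' := z') ?_ (sumElim_inj hi.inj hf hout)
    rw [hP]
    refine sumElim_inj hjinj (hw.four t ht htlt) fun b => ?_
    rw [hjrange]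
    exact hw.not_mem_orb (htd b)

theorem exists_moved {β : Type*} (i : β → Fin n) (u : Perm (Fin n)) :
    (∀ x, x ∉ Set.range i → u x = x) ∨ ∃ x, x ∉ Set.range i ∧ u x ≠ x := by
  by_cases h : ∃ x, x ∉ Set.range i ∧ u x ≠ x
  · exact Or.inr h
  · push Not at h
    exact Or.inl h

section Prime

variable {p : ℕ} [Fact p.Prime]

theorem two_le_pow_sub {j : ℕ} (hp : 5 ≤ p) (hj : 2 ≤ j) : 5 ≤ p ^ (j - 1) :=
  hp.trans (Nat.le_self_pow (by omega) p)

theorem pow_split {j : ℕ} (hj : 1 ≤ j) : p ^ j = p ^ (j - 1) * p := by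
  rw [← pow_succ]; congr 1; omega

/-- The case of an element with a cycle longer than `p`, for `p ≥ 5`. -/
theorem goal_prime_long (hp : 5 ≤ p) {ku : ℕ} (hu : u ^ p ^ ku = 1) (hu1 : u ≠ 1)
    {x₀ : Fin n} {jw : ℕ} (hjw : 2 ≤ jw) (hw : Per w x₀ (p ^ jw)) : Goal p u w := by
  have hpp : p.Prime := Fact.out
  have hodd : Odd p := hpp.odd_of_ne_two (by omega)
  obtain ⟨d, hd⟩ : ∃ d, d = p ^ (jw - 1) := ⟨_, rfl⟩
  rw [pow_split (by omega), ← hd] at hw
  have hd5 : 5 ≤ d := hd ▸ two_le_pow_sub hp hjw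
  have hdp : d ≤ d * p := Nat.le_mul_of_pos_right d hpp.pos
  obtain ⟨hA, hB⟩ := goal_long (u := u) hodd hw hpp.two_le (t := ![1, 2, 3, 4]) (by decide)
    ⟨rfl, rfl⟩ (fun a h => by
      have := Nat.le_of_dvd (by fin_cases a <;> simp) h
      fin_cases a <;> simp at this <;> omega)
    (fun a => by fin_cases a <;> simp <;> omega) (Equiv.refl (ZMod p))
    (e := Equiv.addRight (1 : ZMod p)) (fun k => rfl) (model_prime hp)
  obtain ⟨x₁, hx₁⟩ : ∃ x, u x ≠ x := by
    by_contra h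
    push Not at h
    exact hu1 (Perm.ext h)
  obtain ⟨ju, hju1, -, hper⟩ := exists_per hpp hu hx₁
  rcases Nat.lt_or_ge ju 2 with hju | hju
  · obtain rfl : ju = 1 := by omega
    rw [pow_one] at hper
    rcases exists_moved (orb u x₁ p) u with h | ⟨z, hz, huz⟩
    · exact hA _ hper.rep h
    · obtain ⟨jz, hjz, -, hperz⟩ := exists_per hpp hu huz
      have hpz : p ≤ p ^ jz := Nat.le_self_pow (by omega) p
      refine hB _ 1 ((u ^ 0) z) ((u ^ 2) z) (by rw [pow_one]; exact hper.rep) ?_ ?_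
      · rw [four_pow]
        exact hperz.four _ (by decide) (fun a => by fin_cases a <;> simp <;> omega)
      · rw [four_pow]
        intro b
        exact hper.rep.outside hz _
  · have hd'5 : 5 ≤ p ^ (ju - 1) := two_le_pow_sub hp hju
    rw [pow_split hju1] at hper
    have hdp' : p ^ (ju - 1) ≤ p ^ (ju - 1) * p := Nat.le_mul_of_pos_right _ hpp.pos
    refine hB _ (p ^ (ju - 1)) ((u ^ 1) x₁) ((u ^ 3) x₁) (hper.pow (by omega)).rep ?_ ?_
    · rw [four_pow]
      exact hper.four _ (by decide) (fun a => by fin_cases a <;> simp <;> omega)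
    · rw [four_pow]
      intro b
      refine hper.not_mem_orb fun h => ?_
      have := Nat.le_of_dvd (by fin_cases b <;> simp) h
      fin_cases b <;> simp at this <;> omega

/-- The case of elements of order `p`, for `p ≥ 5`. -/
theorem goal_prime_short (hp : 5 ≤ p) (hu : u ^ p ^ 1 = 1) (hw : w ^ p ^ 1 = 1) (hu1 : u ≠ 1)
    (hw1 : w ≠ 1) : Goal p u w := by
  have hpp : p.Prime := Fact.out
  obtain ⟨x₁, hx₁⟩ : ∃ x, u x ≠ x := by
    by_contra h
    push Not at h
    exact hu1 (Perm.ext h)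
  obtain ⟨x₂, hx₂⟩ : ∃ x, w x ≠ x := by
    by_contra h
    push Not at h
    exact hw1 (Perm.ext h)
  obtain ⟨j₁, h1, h1', hP₁⟩ := exists_per hpp hu hx₁
  obtain ⟨j₂, h2, h2', hP₂⟩ := exists_per hpp hw hx₂
  obtain rfl : j₁ = 1 := le_antisymm h1' h1
  obtain rfl : j₂ = 1 := le_antisymm h2' h2
  rw [pow_one] at hP₁ hP₂
  exact goal_of_fixed (model_prime hp) hP₁.rep.inj hP₂.rep.inj hP₁.rep.semi one_pos
    (fun k => by rw [pow_one]; exact hP₂.rep.semi k) (Or.inl rfl)

end Prime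

section Three

theorem cyc9_eq : (Equiv.addRight (1 : ZMod 9) : Perm (Fin 9)) = cyc9 := by decide

theorem tri9_eq : app rot3 (1 : Perm (Fin 6)) = tri9 := by decide

theorem dbl9_eq : app (app rot3 rot3) (1 : Perm (Fin 3)) = dbl9 := by decide

theorem trp9_eq : app (app rot3 rot3) rot3 = trp9 := by decide

theorem tri5_eq : app rot3 (1 : Perm (Fin 2)) = tri5 := by decide

theorem tri6_eq : app rot3 (1 : Perm (Fin 3)) = tri6 := by decide

theorem dbl6_eq : app rot3 rot3 = dbl6 := by decide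

/-- A three-cycle followed by fixed points. -/
theorem Per.tri_fixed {z : Fin n} (h : Per u z 3) {m : ℕ} (hm : #(u.support) + m ≤ n) :
    ∃ f : Fin m → Fin n, Rep u (app rot3 (1 : Perm (Fin m))) (Fin.append (tri u z) f) ∧
      ∀ k, u (f k) = f k := by
  obtain ⟨f, hf, hfix⟩ := exists_fixed_rep hm
  exact ⟨f, h.tri_rep.append hf fun k hk => h.tri_rep.moved (by decide) _ hk (hfix k), hfix⟩

/-- Two three-cycles. -/
theorem Per.tri_tri {z z' : Fin n} (h : Per u z 3) (h' : Per u z' 3)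
    (hz : z' ∉ Set.range (tri u z)) : Rep u (app rot3 rot3) (Fin.append (tri u z) (tri u z')) :=
  h.tri_rep.append h'.tri_rep fun k => h.tri_rep.outside hz _

theorem range_append {a b : ℕ} (f : Fin a → Fin n) (g : Fin b → Fin n) {x : Fin n} :
    x ∈ Set.range (Fin.append f g) ↔ x ∈ Set.range f ∨ x ∈ Set.range g := by
  constructor
  · rintro ⟨k, rfl⟩
    refine Fin.addCases (fun l => ?_) (fun l => ?_) k
    · left; exact ⟨l, (Fin.append_left _ _ l).symm⟩
    · right; exact ⟨l, (Fin.append_right _ _ l).symm⟩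
  · rintro (⟨k, rfl⟩ | ⟨k, rfl⟩)
    · exact ⟨Fin.castAdd b k, Fin.append_left _ _ k⟩
    · exact ⟨Fin.natAdd a k, Fin.append_right _ _ k⟩

theorem per_three (hu : u ^ 3 ^ 1 = 1) {x : Fin n} (hx : u x ≠ x) : Per u x 3 := by
  obtain ⟨j, h1, h2, h⟩ := exists_per Nat.prime_three hu hx
  obtain rfl : j = 1 := le_antisymm h2 h1
  simpa using h

theorem exists_moved_of_ne_one (hu : u ≠ 1) : ∃ x, u x ≠ x := by
  by_contra h
  push Not at h
  exact hu (Perm.ext h)

/-- Two disjoint three-cycles give edges. -/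
theorem tri_edges {z z' : Fin n} (h : Per u z 3) (h' : Per u z' 3)
    (hz : z' ∉ Set.range (tri u z)) :
    Function.Injective ![u z, z', u z', z] ∧ ∀ b, (![u z, z', u z', z] : Fin 4 → Fin n) b ∈
      Set.range (Fin.append (tri u z) (tri u z')) := by
  have hr := (h.tri_tri h' hz).inj
  have e : (![u z, z', u z', z] : Fin 4 → Fin n) =
      Fin.append (tri u z) (tri u z') ∘ ![1, 3, 4, 0] := by
    funext b
    fin_cases b <;> simp [Fin.append, Fin.addCases, tri]
  rw [e]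
  exact ⟨hr.comp (by decide), fun b => ⟨_, rfl⟩⟩

/-- `u` with a cycle longer than nine. -/
theorem goal_long_long {ju : ℕ} (hju : 3 ≤ ju) {x₁ : Fin n} (hper : Per u x₁ (3 ^ ju))
    (hB : ∀ (i : Fin 9 → Fin n) (a : ℕ) (z z' : Fin n), Rep (u ^ a) cyc9 i →
      Function.Injective ![u z, z', u z', z] → (∀ b, (![u z, z', u z', z] : Fin 4 → Fin n) b ∉ Set.range i) →
      Goal 3 u w) : Goal 3 u w := by
  obtain ⟨l, rfl⟩ : ∃ l, ju = l + 3 := ⟨ju - 3, by omega⟩
  rw [show 3 ^ (l + 3) = 3 ^ (l + 1) * 9 by ring] at hper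
  have hlt : 9 ≤ 3 ^ (l + 1) * 9 := Nat.le_mul_of_pos_left 9 (by positivity)
  have hd : ∀ r : ℕ, r % 3 ≠ 0 → ¬ 3 ^ (l + 1) ∣ r := fun r hr h =>
    hr (Nat.mod_eq_zero_of_dvd ((dvd_pow_self 3 (Nat.succ_ne_zero l)).trans h))
  refine hB _ (3 ^ (l + 1)) ((u ^ 1) x₁) ((u ^ 4) x₁) ((hper.pow (by positivity)).rep.congr cyc9_eq)
    ?_ ?_
  · rw [four_pow]
    exact hper.four _ (by decide) (fun a => by fin_cases a <;> simp <;> omega)
  · rw [four_pow]
    intro b
    exact hper.not_mem_orb (hd _ (by fin_cases b <;> simp))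

theorem range_append_left {a b : ℕ} {f : Fin a → Fin n} {g : Fin b → Fin n} {x : Fin n}
    (hx : x ∉ Set.range (Fin.append f g)) : x ∉ Set.range f :=
  fun h => hx ((range_append f g).2 (Or.inl h))

theorem range_append_right {a b : ℕ} {f : Fin a → Fin n} {g : Fin b → Fin n} {x : Fin n}
    (hx : x ∉ Set.range (Fin.append f g)) : x ∉ Set.range g :=
  fun h => hx ((range_append f g).2 (Or.inr h))

/-- Moved points avoid appended fixed points. -/
theorem not_mem_append_fixed {a b : ℕ} {f : Fin a → Fin n} {g : Fin b → Fin n}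
    (hg : ∀ k, u (g k) = g k) {x : Fin n} (hx : u x ≠ x) (hf : x ∉ Set.range f) :
    x ∉ Set.range (Fin.append f g) := by
  rw [range_append]
  rintro (h | ⟨k, rfl⟩)
  · exact hf h
  · exact hx (hg k)

/-- `u` of exponent three against a long cycle. -/
theorem goal_long_three (hn : 27 ≤ n) (hu : u ^ 3 ^ 1 = 1) (hu1 : u ≠ 1)
    (hA : ∀ c, (c = tri9 ∨ c = dbl9 ∨ c = trp9) → ∀ i : Fin 9 → Fin n, Rep u c i →
      (∀ x, x ∉ Set.range i → u x = x) → Goal 3 u w)
    (hB : ∀ c, (c = tri9 ∨ c = dbl9 ∨ c = trp9) → ∀ (i : Fin 9 → Fin n) (a : ℕ) (z z' : Fin n),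
      Rep (u ^ a) c i → Function.Injective ![u z, z', u z', z] →
      (∀ b, (![u z, z', u z', z] : Fin 4 → Fin n) b ∉ Set.range i) → Goal 3 u w) :
    Goal 3 u w := by
  obtain ⟨z₁, h₁⟩ := exists_moved_of_ne_one hu1
  have P₁ := per_three hu h₁
  rcases exists_moved (tri u z₁) u with h | ⟨z₂, hz₂, h₂⟩
  · have hc := card_support_le h
    rw [Fintype.card_fin] at hc
    obtain ⟨f, hi, -⟩ := P₁.tri_fixed (m := 6) (by omega)
    exact hA _ (Or.inl rfl) _ (hi.congr tri9_eq) fun x hx => h x (range_append_left hx)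
  have P₂ := per_three hu h₂
  have R₂ := P₁.tri_tri P₂ hz₂
  rcases exists_moved (Fin.append (tri u z₁) (tri u z₂)) u with h | ⟨z₃, hz₃, h₃⟩
  · have hc := card_support_le h
    rw [Fintype.card_fin] at hc
    obtain ⟨f, hf, hfix⟩ := exists_fixed_rep (u := u) (m := 3) (by omega)
    exact hA _ (Or.inr (Or.inl rfl)) _ ((R₂.append hf fun k hk =>
      R₂.moved (by decide) _ hk (hfix k)).congr dbl9_eq) fun x hx => h x (range_append_left hx)
  have P₃ := per_three hu h₃
  have R₃ := R₂.append P₃.tri_rep fun k => R₂.outside hz₃ _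
  rcases exists_moved (Fin.append (Fin.append (tri u z₁) (tri u z₂)) (tri u z₃)) u with h | ⟨z₄, hz₄, h₄⟩
  · exact hA _ (Or.inr (Or.inr rfl)) _ (R₃.congr trp9_eq) h
  have P₄ := per_three hu h₄
  have R₄ := R₃.append P₄.tri_rep fun k => R₃.outside hz₄ _
  rcases exists_moved (Fin.append (Fin.append (Fin.append (tri u z₁) (tri u z₂)) (tri u z₃))
      (tri u z₄)) u with h | ⟨z₅, hz₅, h₅⟩
  · have hc := card_support_le h
    rw [Fintype.card_fin] at hc
    obtain ⟨f, hf, hfix⟩ := exists_fixed_rep (u := u) (m := 3) (by omega)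
    obtain ⟨he, hmem⟩ := tri_edges P₃ P₄ (range_append_right hz₄)
    have Rd := (R₂.append hf fun k hk => R₂.moved (by decide) _ hk (hfix k)).congr dbl9_eq
    refine hB _ (Or.inr (Or.inl rfl)) _ 1 z₃ z₄ (by rw [pow_one]; exact Rd) he fun b => ?_
    obtain hb | ⟨k, hk⟩ := (range_append _ _).1 (hmem b)
    · refine not_mem_append_fixed hfix (P₃.tri_rep.moved (by decide) _ hb) ?_
      obtain ⟨k, hk⟩ := hb
      rw [← hk]; exact R₂.outside hz₃ _
    · refine not_mem_append_fixed hfix (P₄.tri_rep.moved (by decide) _ ⟨k, hk⟩) ?_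
      rw [← hk]; exact R₂.outside (range_append_left hz₄) _
  · have P₅ := per_three hu h₅
    obtain ⟨he, hmem⟩ := tri_edges P₄ P₅ (range_append_right hz₅)
    refine hB _ (Or.inr (Or.inr rfl)) _ 1 z₄ z₅ ((by rw [pow_one]; exact R₃.congr trp9_eq)) he
      fun b => ?_
    obtain ⟨k, hk⟩ | ⟨k, hk⟩ := (range_append _ _).1 (hmem b)
    · rw [← hk]; exact R₃.outside hz₄ _
    · rw [← hk]; exact R₃.outside (range_append_left hz₅) _

/-- `u` with a cycle of length nine and none longer, against a long cycle. -/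
theorem goal_long_nine (hn : 27 ≤ n) (hu : u ^ 3 ^ 2 = 1) {x₁ : Fin n} (P₁ : Per u x₁ (3 ^ 2))
    (hA : ∀ i : Fin 9 → Fin n, Rep u cyc9 i → (∀ x, x ∉ Set.range i → u x = x) → Goal 3 u w)
    (hB : ∀ c, (c = cyc9 ∨ c = tri9) → ∀ (i : Fin 9 → Fin n) (a : ℕ) (z z' : Fin n),
      Rep (u ^ a) c i → Function.Injective ![u z, z', u z', z] →
      (∀ b, (![u z, z', u z', z] : Fin 4 → Fin n) b ∉ Set.range i) → Goal 3 u w) :
    Goal 3 u w := by
  norm_num at P₁
  have R₁ : Rep u cyc9 (orb u x₁ 9) := P₁.rep.congr cyc9_eq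
  have chain : ∀ {z : Fin n}, Per u z 9 →
      Function.Injective ![u ((u ^ 0) z), (u ^ 2) z, u ((u ^ 2) z), (u ^ 0) z] := fun h => by
    rw [four_pow]
    exact h.four _ (by decide) (fun a => by fin_cases a <;> simp)
  have out : ∀ {z : Fin n}, z ∉ Set.range (orb u x₁ 9) → ∀ b,
      (![u ((u ^ 0) z), (u ^ 2) z, u ((u ^ 2) z), (u ^ 0) z] : Fin 4 → Fin n) b ∉
        Set.range (orb u x₁ 9) := fun {z} hz => by
    rw [four_pow]
    exact fun b => R₁.outside hz _
  rcases exists_moved (orb u x₁ 9) u with h | ⟨z, hz, huz⟩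
  · exact hA _ R₁ h
  obtain ⟨j, hj1, hj2, P⟩ := exists_per Nat.prime_three hu huz
  rcases Nat.lt_or_ge j 2 with hj | hj
  swap
  · obtain rfl : j = 2 := le_antisymm hj2 hj
    norm_num at P
    exact hB _ (Or.inl rfl) _ 1 _ _ (by rw [pow_one]; exact R₁) (chain P) (out hz)
  obtain rfl : j = 1 := by omega
  norm_num at P
  rcases exists_moved (Sum.elim (orb u x₁ 9) (tri u z)) u with h | ⟨z', hz', huz'⟩
  · have hc : #(u.support) ≤ 12 := by
      have := card_support_le h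
      simpa [Fintype.card_sum] using this
    obtain ⟨f, hi, hfix⟩ := P.tri_fixed (m := 6) (by omega)
    refine hB _ (Or.inr rfl) _ 1 ((u ^ 0) x₁) ((u ^ 2) x₁)
      (by rw [pow_one]; exact hi.congr tri9_eq) (chain P₁) fun b => ?_
    rw [four_pow]
    show (u ^ ((![0 + 1, 2, 2 + 1, 0] : Fin 4 → ℕ) b)) x₁ ∉ _
    generalize (![0 + 1, 2, 2 + 1, 0] : Fin 4 → ℕ) b = r
    have hmem : (u ^ r) x₁ ∈ Set.range (orb u x₁ 9) :=
      ⟨(r : ZMod 9), by
        show (u ^ (r : ZMod 9).val) x₁ = _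
        rw [ZMod.val_natCast, ← P₁.mod]⟩
    refine not_mem_append_fixed hfix (R₁.moved (by decide) _ hmem) ?_
    rintro ⟨k, hk⟩
    exact R₁.outside hz k.val ((show (u ^ k.val) z = (u ^ r) x₁ from hk) ▸ hmem)
  rw [Set.Sum.elim_range, Set.mem_union, not_or] at hz'
  obtain ⟨hz'C, hz'T⟩ := hz'
  obtain ⟨j', hj1', hj2', P'⟩ := exists_per Nat.prime_three hu huz'
  rcases Nat.lt_or_ge j' 2 with hj' | hj'
  swap
  · obtain rfl : j' = 2 := le_antisymm hj2' hj'
    norm_num at P'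
    exact hB _ (Or.inl rfl) _ 1 _ _ (by rw [pow_one]; exact R₁) (chain P') (out hz'C)
  obtain rfl : j' = 1 := by omega
  norm_num at P'
  obtain ⟨he, hmem⟩ := tri_edges P P' hz'T
  refine hB _ (Or.inl rfl) _ 1 z z' (by rw [pow_one]; exact R₁) he fun b => ?_
  obtain ⟨k, hk⟩ | ⟨k, hk⟩ := (range_append _ _).1 (hmem b)
  · rw [← hk]; exact R₁.outside hz _
  · rw [← hk]; exact R₁.outside hz'C _

theorem pow_eq_one_of_per {p : ℕ} (hp : p.Prime) {k l : ℕ} (hu : u ^ p ^ k = 1)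
    (h : ∀ x j, Per u x (p ^ j) → j ≤ l) : u ^ p ^ l = 1 := by
  refine Perm.ext fun x => ?_
  by_cases hx : u x = x
  · rw [Perm.one_apply]
    exact Perm.pow_apply_eq_self_of_apply_eq_self hx _
  · obtain ⟨j, -, -, hj⟩ := exists_per hp hu hx
    obtain ⟨q, hq⟩ := pow_dvd_pow p (h x j hj)
    rw [hq, hj.mul, Perm.one_apply]

theorem Per.le_card {x : Fin n} {m : ℕ} (h : Per u x m) : m ≤ n := by
  have := Fintype.card_le_of_injective (fun r : Fin m => (u ^ r.val) x)
    (fun a b e => Fin.ext (h.inj a.2 b.2 e))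
  simpa using this

/-- `w` with a cycle longer than nine. -/
theorem goal_three_long {ku : ℕ} (hu : u ^ 3 ^ ku = 1) (hu1 : u ≠ 1) {x₀ : Fin n} {jw : ℕ}
    (hjw : 3 ≤ jw) (hw : Per w x₀ (3 ^ jw)) : Goal 3 u w := by
  obtain ⟨l, rfl⟩ : ∃ l, jw = l + 3 := ⟨jw - 3, by omega⟩
  have hn : 27 ≤ n := le_trans (by
    rw [show 3 ^ (l + 3) = 3 ^ l * 27 by ring]
    exact Nat.le_mul_of_pos_left _ (by positivity)) hw.le_card
  rw [show 3 ^ (l + 3) = 3 ^ (l + 1) * 9 by ring] at hw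
  have hlt : 9 ≤ 3 ^ (l + 1) * 9 := Nat.le_mul_of_pos_left 9 (by positivity)
  have hd : ∀ r : ℕ, r % 3 ≠ 0 → ¬ 3 ^ (l + 1) ∣ r := fun r hr h =>
    hr (Nat.mod_eq_zero_of_dvd ((dvd_pow_self 3 (Nat.succ_ne_zero l)).trans h))
  have hM : ∀ c, (c = cyc9 ∨ c = tri9 ∨ c = dbl9 ∨ c = trp9) → Model 3 c cyc9 := by
    rintro c (rfl | rfl | rfl | rfl)
    · exact model_cc
    · exact model_tc
    · exact model_dc
    · exact model_ec
  have H := fun c hc => goal_long (u := u) (p := 3) (by decide) hw (by norm_num) (t := ![1, 2, 4, 5])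
    (by decide) ⟨rfl, rfl⟩ (fun a => hd _ (by fin_cases a <;> simp))
    (fun a => by fin_cases a <;> simp <;> omega) (Equiv.refl (ZMod 9) : Fin 9 ≃ ZMod 9)
    (e := cyc9) (by decide) (hM c hc)
  by_cases h3 : ∃ x j, 3 ≤ j ∧ Per u x (3 ^ j)
  · obtain ⟨x, j, hj, hP⟩ := h3
    exact goal_long_long hj hP (H _ (Or.inl rfl)).2
  push Not at h3
  have hu9 : u ^ 3 ^ 2 = 1 := pow_eq_one_of_per Nat.prime_three hu fun x j hj => by
    by_contra hcon
    exact h3 x j (by omega) hj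
  by_cases h2 : ∃ x, Per u x (3 ^ 2)
  · obtain ⟨x, hP⟩ := h2
    exact goal_long_nine hn hu9 hP (H _ (Or.inl rfl)).1
      (fun c hc => (H c (hc.imp id Or.inl)).2)
  push Not at h2
  have hu3 : u ^ 3 ^ 1 = 1 := pow_eq_one_of_per Nat.prime_three hu9 fun x j hj => by
    by_contra hcon
    have : ¬ 3 ≤ j := fun h => h3 x j h hj
    obtain rfl : j = 2 := by omega
    exact h2 x hj
  exact goal_long_three hn hu3 hu1 (fun c hc => (H c (Or.inr hc)).1) (fun c hc => (H c (Or.inr hc)).2)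

/-- Both of exponent nine, `w` with a cycle of length nine. -/
theorem goal_three_nine (hu : u ^ 3 ^ 2 = 1) (hu1 : u ≠ 1) {x₀ : Fin n} (hw : Per w x₀ (3 ^ 2)) :
    Goal 3 u w := by
  norm_num at hw
  have hn := hw.le_card
  have Rw : Rep w cyc9 (orb w x₀ 9) := hw.rep.congr cyc9_eq
  have fin : ∀ {c : Perm (Fin 9)}, Model 3 c cyc9 → ∀ {i : Fin 9 → Fin n}, Rep u c i → Goal 3 u w :=
    fun hM _ hi => goal_of_fixed hM hi.inj Rw.inj hi.semi one_pos
      (fun k => by rw [pow_one]; exact Rw.semi k) (Or.inl rfl)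
  by_cases h2 : ∃ x, Per u x (3 ^ 2)
  · obtain ⟨x, hP⟩ := h2
    norm_num at hP
    exact fin model_cc (hP.rep.congr cyc9_eq)
  push Not at h2
  have hu3 : u ^ 3 ^ 1 = 1 := pow_eq_one_of_per Nat.prime_three hu fun x j hj => by
    by_contra hcon
    obtain ⟨j', -, hj', hP⟩ := exists_per Nat.prime_three hu (x := x) fun he => by
      have := hj.min 1 one_pos (Nat.one_lt_pow (by omega) (by norm_num))
      exact this (by rw [pow_one]; exact he)
    have hjj : 3 ^ j = 3 ^ j' := by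
      rcases lt_trichotomy (3 ^ j) (3 ^ j') with h | h | h
      · exact absurd hj.fix (hP.min _ hj.pos h)
      · exact h
      · exact absurd hP.fix (hj.min _ hP.pos h)
    obtain rfl : j = j' := Nat.pow_right_injective (le_refl 2 |>.trans (by norm_num)) hjj
    obtain rfl : j = 2 := by omega
    exact h2 x hP
  obtain ⟨z₁, h₁⟩ := exists_moved_of_ne_one hu1
  have P₁ := per_three hu3 h₁
  rcases exists_moved (tri u z₁) u with h | ⟨z₂, hz₂, h₂⟩
  · have hc := card_support_le h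
    rw [Fintype.card_fin] at hc
    obtain ⟨f, hi, -⟩ := P₁.tri_fixed (m := 6) (by omega)
    exact fin model_tc (hi.congr tri9_eq)
  have P₂ := per_three hu3 h₂
  have R₂ := P₁.tri_tri P₂ hz₂
  rcases exists_moved (Fin.append (tri u z₁) (tri u z₂)) u with h | ⟨z₃, hz₃, h₃⟩
  · have hc := card_support_le h
    rw [Fintype.card_fin] at hc
    obtain ⟨f, hf, hfix⟩ := exists_fixed_rep (u := u) (m := 3) (by omega)
    exact fin model_dc ((R₂.append hf fun k hk => R₂.moved (by decide) _ hk (hfix k)).congr dbl9_eq)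
  have P₃ := per_three hu3 h₃
  exact fin model_ec ((R₂.append P₃.tri_rep fun k => R₂.outside hz₃ _).congr trp9_eq)

/-- The possible restrictions to five and six points. -/
theorem shapes (hu : u ^ 3 ^ 1 = 1) (hu1 : u ≠ 1) (hn : 5 ≤ n) :
    (∃ i, Rep u dbl6 i) ∨ ((∃ i, Rep u tri5 i) ∧ (6 ≤ n → ∃ i, Rep u tri6 i)) := by
  obtain ⟨z₁, h₁⟩ := exists_moved_of_ne_one hu1
  have P₁ := per_three hu h₁
  rcases exists_moved (tri u z₁) u with h | ⟨z₂, hz₂, h₂⟩
  · have hc := card_support_le h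
    rw [Fintype.card_fin] at hc
    obtain ⟨f, hi, -⟩ := P₁.tri_fixed (m := 2) (by omega)
    refine Or.inr ⟨⟨_, hi.congr tri5_eq⟩, fun h6 => ?_⟩
    obtain ⟨g, hg, -⟩ := P₁.tri_fixed (m := 3) (by omega)
    exact ⟨_, hg.congr tri6_eq⟩
  · exact Or.inl ⟨_, (P₁.tri_tri (per_three hu h₂) hz₂).congr dbl6_eq⟩

/-- Both of exponent three. -/
theorem goal_three_three (hn : 5 ≤ n) (hu : u ^ 3 ^ 1 = 1) (hw : w ^ 3 ^ 1 = 1) (hu1 : u ≠ 1)
    (hw1 : w ≠ 1) : Goal 3 u w := by
  have fin : ∀ {N : ℕ} {c e : Perm (Fin N)}, Model 3 c e → ∀ {i j : Fin N → Fin n},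
      Rep u c i → Rep w e j → Goal 3 u w :=
    fun hM _ _ hi hj => goal_of_fixed hM hi.inj hj.inj hi.semi one_pos
      (fun k => by rw [pow_one]; exact hj.semi k) (Or.inl rfl)
  have six : ∀ {i : Fin 6 → Fin n}, Function.Injective i → 6 ≤ n := fun h => by
    simpa using Fintype.card_le_of_injective _ h
  rcases shapes hu hu1 hn with ⟨i, hi⟩ | ⟨⟨i, hi⟩, hi6⟩ <;>
    rcases shapes hw hw1 hn with ⟨j, hj⟩ | ⟨⟨j, hj⟩, hj6⟩
  · exact fin model_d6d6 hi hj
  · obtain ⟨j', hj'⟩ := hj6 (six hi.inj)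
    exact fin model_d6t6 hi hj'
  · obtain ⟨i', hi'⟩ := hi6 (six hj.inj)
    exact fin model_t6d6 hi' hj
  · exact fin model_t5t5 hi hj

end Three

/-- Any two non-trivial elements of `p`-power order have a free pair of even conjugates. -/
theorem goal_all (hn : 5 ≤ n) {p : ℕ} (hp : p.Prime) (hp3 : 3 ≤ p) {ku kw : ℕ}
    (hu : u ^ p ^ ku = 1) (hw : w ^ p ^ kw = 1) (hu1 : u ≠ 1) (hw1 : w ≠ 1) : Goal p u w := by
  haveI : Fact p.Prime := ⟨hp⟩
  rcases eq_or_lt_of_le hp3 with rfl | hlt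
  · by_cases h3 : ∃ x j, 3 ≤ j ∧ Per w x (3 ^ j)
    · obtain ⟨x, j, hj, hP⟩ := h3
      exact goal_three_long hu hu1 hj hP
    by_cases h3' : ∃ x j, 3 ≤ j ∧ Per u x (3 ^ j)
    · obtain ⟨x, j, hj, hP⟩ := h3'
      exact (goal_three_long hw hw1 hj hP).symm
    push Not at h3 h3'
    have hu9 : u ^ 3 ^ 2 = 1 := pow_eq_one_of_per hp hu fun x j hj => by
      by_contra hcon
      exact h3' x j (by omega) hj
    have hw9 : w ^ 3 ^ 2 = 1 := pow_eq_one_of_per hp hw fun x j hj => by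
      by_contra hcon
      exact h3 x j (by omega) hj
    by_cases h2 : ∃ x, Per w x (3 ^ 2)
    · obtain ⟨x, hP⟩ := h2
      exact goal_three_nine hu9 hu1 hP
    by_cases h2' : ∃ x, Per u x (3 ^ 2)
    · obtain ⟨x, hP⟩ := h2'
      exact (goal_three_nine hw9 hw1 hP).symm
    push Not at h2 h2'
    refine goal_three_three hn (pow_eq_one_of_per hp hu fun x j hj => ?_)
      (pow_eq_one_of_per hp hw fun x j hj => ?_) hu1 hw1
    · by_contra hcon
      have : ¬ 3 ≤ j := fun h => h3' x j h hj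
      obtain rfl : j = 2 := by omega
      exact h2' x hj
    · by_contra hcon
      have : ¬ 3 ≤ j := fun h => h3 x j h hj
      obtain rfl : j = 2 := by omega
      exact h2 x hj
  · have hp5 : 5 ≤ p := by
      by_contra hcon
      obtain rfl : p = 4 := by omega
      exact absurd hp (by decide)
    by_cases hl : ∃ x j, 2 ≤ j ∧ Per w x (p ^ j)
    · obtain ⟨x, j, hj, hP⟩ := hl
      exact goal_prime_long hp5 hu hu1 hj hP
    by_cases hl' : ∃ x j, 2 ≤ j ∧ Per u x (p ^ j)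
    · obtain ⟨x, j, hj, hP⟩ := hl'
      exact (goal_prime_long hp5 hw hw1 hj hP).symm
    push Not at hl hl'
    refine goal_prime_short hp5 (pow_eq_one_of_per hp hu fun x j hj => ?_)
      (pow_eq_one_of_per hp hw fun x j hj => ?_) hu1 hw1
    · by_contra hcon
      exact hl' x j (by omega) hj
    · by_contra hcon
      exact hl x j (by omega) hj

end CfsgLib.FreePair
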