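import Cfsg.Agent.Lib.FreePair.Criteria
import Mathlib.Data.ZMod.Basic
import Mathlib.Data.Fin.Tuple.Basic
import Mathlib.Dynamics.PeriodicPts.Defs
import Mathlib.GroupTheory.Perm.Support
import Mathlib.Algebra.BigOperators.Fin
import Mathlib.NumberTheory.Divisors

/-!
Invariant point sets made of orbits and fixed points of a permutation.
-/

set_option autoImplicit false

namespace CfsgLib.FreePair

open Equiv
open scoped Finset

variable {n : ℕ} {β : Type*} {u : Perm (Fin n)}

/-- `i` identifies `c` with the restriction of `u`. -/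
structure Rep (u : Perm (Fin n)) (c : Perm β) (i : β → Fin n) : Prop where
  inj : Function.Injective i
  semi : ∀ k, u (i k) = i (c k)

theorem Rep.congr {c c' : Perm β} {i : β → Fin n} (h : Rep u c i) (e : c = c') : Rep u c' i := e ▸ h

theorem Rep.outside [Finite β] {c : Perm β} {i : β → Fin n} (h : Rep u c i) {z : Fin n}
    (hz : z ∉ Set.range i) (r : ℕ) : (u ^ r) z ∉ Set.range i :=
  fun hr => hz (mem_range_of_apply h.semi hr)

/-- The period of `x` is `m`. -/
structure Per (u : Perm (Fin n)) (x : Fin n) (m : ℕ) : Prop where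
  pos : 0 < m
  fix : (u ^ m) x = x
  min : ∀ r, 0 < r → r < m → (u ^ r) x ≠ x

theorem Per.mul {x : Fin n} {m : ℕ} (h : Per u x m) (q : ℕ) : (u ^ (m * q)) x = x := by
  induction q with
  | zero => simp
  | succ q ih => rw [Nat.mul_succ, pow_add, Perm.mul_apply, h.fix, ih]

theorem Per.mod {x : Fin n} {m : ℕ} (h : Per u x m) (N : ℕ) : (u ^ N) x = (u ^ (N % m)) x := by
  conv_lhs => rw [← Nat.mod_add_div N m, pow_add, Perm.mul_apply, h.mul]

theorem Per.inj {x : Fin n} {m : ℕ} (h : Per u x m) {r s : ℕ} (hr : r < m) (hs : s < m)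
    (e : (u ^ r) x = (u ^ s) x) : r = s := by
  rcases lt_trichotomy r s with hlt | heq | hlt
  · refine absurd ((u ^ r).injective ?_) (h.min (s - r) (by omega) (by omega))
    rw [← Perm.mul_apply, ← pow_add, Nat.add_sub_cancel' hlt.le, e]
  · exact heq
  · refine absurd ((u ^ s).injective ?_) (h.min (r - s) (by omega) (by omega))
    rw [← Perm.mul_apply, ← pow_add, Nat.add_sub_cancel' hlt.le, e]

theorem Per.pow {x : Fin n} {d N : ℕ} (h : Per u x (d * N)) (hd : 0 < d) : Per (u ^ d) x N where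
  pos := Nat.pos_of_ne_zero fun h0 => by have := h.pos; rw [h0, mul_zero] at this; omega
  fix := by rw [← pow_mul]; exact h.fix
  min := fun r h1 h2 => by
    rw [← pow_mul]
    exact h.min _ (Nat.mul_pos hd h1) (Nat.mul_lt_mul_of_pos_left h2 hd)

theorem exists_per {p : ℕ} (hp : p.Prime) {k : ℕ} (hk : u ^ p ^ k = 1) {x : Fin n} (hx : u x ≠ x) :
    ∃ j, 1 ≤ j ∧ j ≤ k ∧ Per u x (p ^ j) := by
  have hiter : ∀ r (y : Fin n), (u ^ r) y = (⇑u)^[r] y := fun r y => by rw [Perm.coe_pow]
  have hper : Function.IsPeriodicPt u (p ^ k) x := by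
    show (⇑u)^[p ^ k] x = x
    rw [← hiter, hk]; rfl
  obtain ⟨j, hjk, hj⟩ := (Nat.dvd_prime_pow hp).1 hper.minimalPeriod_dvd
  have hj1 : 1 ≤ j := by
    by_contra h
    have hj0 : j = 0 := by omega
    rw [hj0, pow_zero] at hj
    exact hx (Function.minimalPeriod_eq_one_iff_isFixedPt.1 hj)
  refine ⟨j, hj1, hjk, pow_pos hp.pos j, ?_, fun r h1 h2 => ?_⟩
  · rw [hiter, ← hj]; exact Function.iterate_minimalPeriod
  · rw [hiter]
    exact Function.not_isPeriodicPt_of_pos_of_lt_minimalPeriod h1.ne' (hj ▸ h2)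

/-- The orbit of a point of period `N` as a representation of the translation. -/
def orb (u : Perm (Fin n)) (x : Fin n) (N : ℕ) (k : ZMod N) : Fin n := (u ^ k.val) x

theorem Per.rep {x : Fin n} {N : ℕ} [NeZero N] (h : Per u x N) :
    Rep u (Equiv.addRight (1 : ZMod N)) (orb u x N) := by
  constructor
  · intro a b e
    exact ZMod.val_injective N (h.inj (ZMod.val_lt a) (ZMod.val_lt b) e)
  · intro k
    show u ((u ^ k.val) x) = (u ^ (k + 1).val) x
    rw [← Perm.mul_apply, ← pow_succ', h.mod (k.val + 1), ZMod.val_add, ZMod.val_one_eq_one_mod,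
      Nat.add_mod_mod]

/-- Points at positions not divisible by `d` avoid the orbit of `u ^ d`. -/
theorem Per.not_mem_orb {x : Fin n} {d N : ℕ} [NeZero N] (h : Per u x (d * N)) {r : ℕ}
    (hr : ¬ d ∣ r) : (u ^ r) x ∉ Set.range (orb (u ^ d) x N) := by
  rintro ⟨k, hk⟩
  change ((u ^ d) ^ k.val) x = (u ^ r) x at hk
  rw [← pow_mul, h.mod (d * k.val), h.mod r] at hk
  have e := h.inj (Nat.mod_lt _ h.pos) (Nat.mod_lt _ h.pos) hk
  apply hr
  rw [Nat.mul_mod_mul_left] at e
  rw [← Nat.mod_add_div r (d * N), ← e]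
  exact dvd_add (Dvd.intro _ rfl) ((Dvd.intro N rfl).mul_right _)

theorem Per.orb_pow_not_mem {x : Fin n} {d N : ℕ} [NeZero N] (h : Per u x (d * N)) {r : ℕ}
    (h1 : 0 < r) (h2 : r < d) (k : ZMod N) :
    (u ^ r) (orb (u ^ d) x N k) ∉ Set.range (orb (u ^ d) x N) := by
  show (u ^ r) (((u ^ d) ^ k.val) x) ∉ _
  rw [← pow_mul, ← Perm.mul_apply, ← pow_add]
  refine h.not_mem_orb fun hd => ?_
  rw [Nat.dvd_add_left (Dvd.intro _ rfl)] at hd
  have := Nat.le_of_dvd h1 hd
  omega

/-- Four powers of a point as a tuple. -/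
theorem Per.four {x : Fin n} {m : ℕ} (h : Per u x m) (e : Fin 4 → ℕ) (he : Function.Injective e)
    (hlt : ∀ a, e a < m) : Function.Injective fun a => (u ^ e a) x :=
  fun a b hab => he (h.inj (hlt a) (hlt b) hab)

theorem four_pow (u : Perm (Fin n)) (x : Fin n) (r s : ℕ) :
    ![u ((u ^ r) x), (u ^ s) x, u ((u ^ s) x), (u ^ r) x] =
      fun a => (u ^ (![r + 1, s, s + 1, r] a)) x := by
  funext a
  fin_cases a <;> simp [pow_succ', Perm.mul_apply]

/-- A three-cycle on three points. -/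
def rot3 : Perm (Fin 3) := ⟨![1, 2, 0], ![2, 0, 1], by decide, by decide⟩

/-- The points of a three-cycle of `u`. -/
def tri (u : Perm (Fin n)) (z : Fin n) (k : Fin 3) : Fin n := (u ^ k.val) z

theorem Per.tri_rep {z : Fin n} (h : Per u z 3) : Rep u rot3 (tri u z) := by
  constructor
  · intro a b e
    exact Fin.ext (h.inj a.2 b.2 e)
  · intro k
    show u ((u ^ k.val) z) = _
    rw [← Perm.mul_apply, ← pow_succ', h.mod (k.val + 1)]
    fin_cases k <;> rfl

/-- Permutations on a concatenation. -/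
def app {a b : ℕ} (c₁ : Perm (Fin a)) (c₂ : Perm (Fin b)) : Perm (Fin (a + b)) :=
  finSumFinEquiv.permCongr (Perm.sumCongr c₁ c₂)

theorem Rep.append {a b : ℕ} {c₁ : Perm (Fin a)} {c₂ : Perm (Fin b)} {i₁ : Fin a → Fin n}
    {i₂ : Fin b → Fin n} (h₁ : Rep u c₁ i₁) (h₂ : Rep u c₂ i₂)
    (hd : ∀ k, i₂ k ∉ Set.range i₁) : Rep u (app c₁ c₂) (Fin.append i₁ i₂) := by
  constructor
  · intro x y
    refine Fin.addCases (fun k => ?_) (fun k => ?_) x <;>
      refine Fin.addCases (fun l => ?_) (fun l => ?_) y <;>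
      intro e <;> simp only [Fin.append_left, Fin.append_right] at e
    · rw [h₁.inj e]
    · exact absurd ⟨k, e⟩ (hd l)
    · exact absurd ⟨l, e.symm⟩ (hd k)
    · rw [h₂.inj e]
  · intro k
    refine Fin.addCases (fun l => ?_) (fun l => ?_) k
    · simp [app, Equiv.permCongr_apply, h₁.semi, Fin.append_left]
    · simp [app, Equiv.permCongr_apply, h₂.semi, Fin.append_right]

/-- All points of the range are moved. -/
theorem Rep.moved {c : Perm β} {i : β → Fin n} (h : Rep u c i) (hc : ∀ k, c k ≠ k) :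
    ∀ z ∈ Set.range i, u z ≠ z := by
  rintro _ ⟨k, rfl⟩ e
  rw [h.semi] at e
  exact hc k (h.inj e)

/-- Fixed points as a trivial representation. -/
theorem exists_fixed_rep {m : ℕ} (hm : #(u.support) + m ≤ n) :
    ∃ i : Fin m → Fin n, Rep u 1 i ∧ ∀ k, u (i k) = i k := by
  classical
  have h : m ≤ #(u.supportᶜ) := by rw [Finset.card_compl, Fintype.card_fin]; omega
  obtain ⟨T, hT, hTc⟩ := Finset.exists_subset_card_eq h
  have hfix : ∀ k, u (T.orderEmbOfFin hTc k) = T.orderEmbOfFin hTc k := fun k =>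
    Perm.notMem_support.1 (Finset.mem_compl.1 (hT (Finset.orderEmbOfFin_mem T hTc k)))
  exact ⟨_, ⟨(T.orderEmbOfFin hTc).injective, fun k => by rw [hfix, Perm.one_apply]⟩, hfix⟩

/-- If everything outside the range is fixed, the support is no larger than the range. -/
theorem card_support_le [Fintype β] {i : β → Fin n} (h : ∀ z, z ∉ Set.range i → u z = z) :
    #(u.support) ≤ Fintype.card β := by
  classical
  refine (Finset.card_le_card fun z hz => ?_).trans (Finset.card_image_le (s := Finset.univ) (f := i))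
  rw [Perm.mem_support] at hz
  by_contra hcon
  refine hz (h z ?_)
  rintro ⟨k, rfl⟩
  exact hcon (Finset.mem_image_of_mem i (Finset.mem_univ k))

end CfsgLib.FreePair
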